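import Cfsg.Agent.Lib.Helper44.FW.Defs

/-!
# FW (S3211) — package [CNTEQ]

A swapping element gives equally many square roots of `j` and of `t₀` in `C(j) ∩ C(t₀)`.
-/

set_option autoImplicit false

namespace Cfsg.Agent.Lib.Helper96.FW

universe u

theorem fwCE_conj_comm {G : Type u} [Group G] (g a b : G) (h : a * b = b * a) :
    (g * a * g⁻¹) * (g * b * g⁻¹) = (g * b * g⁻¹) * (g * a * g⁻¹) := by
  calc (g * a * g⁻¹) * (g * b * g⁻¹) = g * (a * b) * g⁻¹ := by group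
    _ = g * (b * a) * g⁻¹ := by rw [h]
    _ = (g * b * g⁻¹) * (g * a * g⁻¹) := by group

theorem fwCE_conj_comm' {G : Type u} [Group G] (g a b : G) (h : a * b = b * a) :
    (g⁻¹ * a * g) * (g⁻¹ * b * g) = (g⁻¹ * b * g) * (g⁻¹ * a * g) := by
  calc (g⁻¹ * a * g) * (g⁻¹ * b * g) = g⁻¹ * (a * b) * g := by group
    _ = g⁻¹ * (b * a) * g := by rw [h]
    _ = (g⁻¹ * b * g) * (g⁻¹ * a * g) := by group

theorem fwCE_conj_sq {G : Type u} [Group G] (g a : G) :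
    (g * a * g⁻¹) ^ 2 = g * a ^ 2 * g⁻¹ := by
  rw [sq, sq]; group

theorem fwCE_conj_sq' {G : Type u} [Group G] (g a : G) :
    (g⁻¹ * a * g) ^ 2 = g⁻¹ * a ^ 2 * g := by
  rw [sq, sq]; group

theorem pkgCntEq : Cfsg.Agent.Lib.Helper44.FW.PkgCntEq.{u} := by
  intro G _ j t₀ g h1 h2
  have h1' : g⁻¹ * t₀ * g = j := by rw [← h1]; group
  have h2' : g⁻¹ * j * g = t₀ := by rw [← h2]; group
  have hf : ∀ r : G, (r * j = j * r ∧ r * t₀ = t₀ * r ∧ r ^ 2 = j) →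
      ((g * r * g⁻¹) * j = j * (g * r * g⁻¹) ∧ (g * r * g⁻¹) * t₀ = t₀ * (g * r * g⁻¹) ∧
        (g * r * g⁻¹) ^ 2 = t₀) := by
    intro r hr
    refine ⟨?_, ?_, ?_⟩
    · have := fwCE_conj_comm g r t₀ hr.2.1
      rwa [h2] at this
    · have := fwCE_conj_comm g r j hr.1
      rwa [h1] at this
    · rw [fwCE_conj_sq, hr.2.2, h1]
  have hb : ∀ r : G, (r * j = j * r ∧ r * t₀ = t₀ * r ∧ r ^ 2 = t₀) →
      ((g⁻¹ * r * g) * j = j * (g⁻¹ * r * g) ∧ (g⁻¹ * r * g) * t₀ = t₀ * (g⁻¹ * r * g) ∧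
        (g⁻¹ * r * g) ^ 2 = j) := by
    intro r hr
    refine ⟨?_, ?_, ?_⟩
    · have := fwCE_conj_comm' g r t₀ hr.2.1
      rwa [h1'] at this
    · have := fwCE_conj_comm' g r j hr.1
      rwa [h2'] at this
    · rw [fwCE_conj_sq', hr.2.2, h1']
  exact Nat.card_congr
    { toFun := fun r => ⟨g * r.1 * g⁻¹, hf r.1 r.2⟩
      invFun := fun r => ⟨g⁻¹ * r.1 * g, hb r.1 r.2⟩
      left_inv := fun r => by apply Subtype.ext; simp [mul_assoc]
      right_inv := fun r => by apply Subtype.ext; simp [mul_assoc] }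

end Cfsg.Agent.Lib.Helper96.FW
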